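import Mathlib
import Cfsg.Agent.Lib.Regular.Lazard

/-!
Elements with centralizer of order `p ^ 2` in a Sylow subgroup of maximal class: such an element with
a larger centralizer in the whole group is conjugate into the second layer from the bottom.
-/

set_option autoImplicit false
set_option linter.style.haveILetI false
set_option linter.unusedSectionVars false

open scoped commutatorElement Pointwise

namespace CfsgLib.MaxClassSylow

universe u

variable {G : Type u} [Group G] [Finite G] {p : ℕ} [hp : Fact p.Prime]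

/-- The layer of order `p ^ j` of a group `S` of maximal class of order `p ^ n`. -/
abbrev Lay (S : Subgroup G) (n j : ℕ) : Subgroup G := S.lowerCentralSeries (n - 1 - j)

/-- A subgroup of maximal class with an element whose centralizer in it has order `p ^ 2`. -/
structure Ctx (p n : ℕ) (S : Subgroup G) (x : G) : Prop where
  three_le : 3 ≤ n
  card : Nat.card S = p ^ n
  lay : ∀ j, j + 2 ≤ n → Nat.card (Lay S n j) = p ^ j
  mem : x ∈ S
  cent : Nat.card (S ⊓ Subgroup.centralizer ({x} : Set G) : Subgroup G) = p ^ 2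

/-- Some element carries `⟨x⟩` and the layer `j + 1` into themselves but moves that layer. -/
def Moves (S : Subgroup G) (n : ℕ) (x : G) (j : ℕ) : Prop :=
  ∃ t : G, (Subgroup.zpowers x ⊔ Lay S n (j + 1)).map (MulAut.conj t).toMonoidHom ≤
      Subgroup.zpowers x ⊔ Lay S n (j + 1) ∧
    ¬ (Lay S n (j + 1)).map (MulAut.conj t).toMonoidHom ≤ Lay S n (j + 1)

variable {n : ℕ} {S : Subgroup G} {x : G}

theorem lay_le (S : Subgroup G) (n j : ℕ) : Lay S n j ≤ S := S.lowerCentralSeries_le_self _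

theorem lay_mono (S : Subgroup G) (n : ℕ) {i j : ℕ} (h : i ≤ j) : Lay S n i ≤ Lay S n j :=
  S.lowerCentralSeries_antitone (by omega)

theorem le_normalizer_lay (S : Subgroup G) (n j : ℕ) :
    S ≤ Subgroup.normalizer (Lay S n j : Set G) :=
  S.self_le_normalizer_lowerCentralSeries _

namespace Ctx

variable (h : Ctx p n S x)

include h

theorem pgroup : IsPGroup p S := IsPGroup.of_card h.card

theorem lay_zero : Lay S n 0 = ⊥ :=
  Subgroup.eq_bot_of_card_eq _ (by rw [h.lay 0 (by have := h.three_le; omega), pow_zero])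

theorem commute_lay_one {z s : G} (hz : z ∈ Lay S n 1) (hs : s ∈ S) : z * s = s * z := by
  have h1 : ⁅z, s⁆ ∈ Lay S n 0 := by
    have h3 := h.three_le
    have h4 : n - 1 - 0 = (n - 1 - 1) + 1 := by omega
    show ⁅z, s⁆ ∈ S.lowerCentralSeries (n - 1 - 0)
    rw [h4, Subgroup.lowerCentralSeries_succ]
    exact Subgroup.commutator_mem_commutator hz hs
  rw [h.lay_zero, Subgroup.mem_bot, commutatorElement_eq_one_iff_mul_comm] at h1
  exact h1

theorem le_centralizer_lay_one : S ≤ Subgroup.centralizer (Lay S n 1 : Set G) :=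
  fun _ hs _ hz => h.commute_lay_one hz hs

theorem notMem_lay_one : x ∉ Lay S n 1 := fun hx => by
  have h1 : S ⊓ Subgroup.centralizer ({x} : Set G) = S := inf_eq_left.mpr fun s hs =>
    Subgroup.mem_centralizer_singleton_iff.mpr (h.commute_lay_one hx hs).symm
  have h2 := h.cent
  rw [h1, h.card] at h2
  have := Nat.pow_right_injective hp.out.two_le h2
  have := h.three_le
  omega

theorem lay_one_le_cent : Lay S n 1 ≤ S ⊓ Subgroup.centralizer ({x} : Set G) :=
  fun _ hz => ⟨lay_le S n 1 hz,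
    Subgroup.mem_centralizer_singleton_iff.mpr (h.commute_lay_one hz h.mem)⟩

theorem cent_eq : S ⊓ Subgroup.centralizer ({x} : Set G) = Subgroup.zpowers x ⊔ Lay S n 1 := by
  have hle : Subgroup.zpowers x ⊔ Lay S n 1 ≤ S ⊓ Subgroup.centralizer ({x} : Set G) :=
    sup_le (Subgroup.zpowers_le.mpr ⟨h.mem, Subgroup.mem_centralizer_singleton_iff.mpr rfl⟩)
      h.lay_one_le_cent
  refine (Subgroup.eq_of_le_of_card_ge hle ?_).symm
  obtain ⟨a, ha⟩ := IsPGroup.iff_card.mp (h.pgroup.to_le (hle.trans inf_le_left))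
  rw [h.cent, ha]
  refine Nat.pow_le_pow_right hp.out.pos ?_
  by_contra hlt
  have h1 : Nat.card ↥(Subgroup.zpowers x ⊔ Lay S n 1) ≤ Nat.card (Lay S n 1) := by
    rw [ha, h.lay 1 h.three_le]
    exact Nat.pow_le_pow_right hp.out.pos (by omega)
  exact h.notMem_lay_one ((Subgroup.eq_of_le_of_card_ge le_sup_right h1).symm ▸
    Subgroup.mem_sup_left (Subgroup.mem_zpowers x))

theorem pow_mem_lay_one : x ^ p ∈ Lay S n 1 := by
  classical
  set Q := Subgroup.zpowers x ⊔ Lay S n 1 with hQ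
  have hQc : Nat.card Q = p ^ 2 := by rw [hQ, ← h.cent_eq]; exact h.cent
  have hQS : Q ≤ S := hQ ▸ sup_le (Subgroup.zpowers_le.mpr h.mem) (lay_le S n 1)
  haveI hn : ((Lay S n 1).subgroupOf Q).Normal :=
    (Subgroup.normal_subgroupOf_iff_le_normalizer (hQ ▸ le_sup_right)).mpr
      (hQS.trans (le_normalizer_lay S n 1))
  have hidx : ((Lay S n 1).subgroupOf Q).index = p := by
    have h1 := Subgroup.card_mul_index ((Lay S n 1).subgroupOf Q)
    rw [Nat.card_congr (Subgroup.subgroupOfEquivOfLe (hQ ▸ le_sup_right)).toEquiv, hQc,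
      h.lay 1 h.three_le, pow_one, pow_two] at h1
    exact Nat.eq_of_mul_eq_mul_left hp.out.pos h1
  have hxQ : x ∈ Q := hQ ▸ Subgroup.mem_sup_left (Subgroup.mem_zpowers x)
  have := Subgroup.pow_index_mem ((Lay S n 1).subgroupOf Q) (⟨x, hxQ⟩ : Q)
  rw [hidx] at this
  exact this

theorem card_le_of_comm_mem (D L : Subgroup G) (hD : D ≤ S)
    (hL : ∀ g ∈ D, x⁻¹ * g * x * g⁻¹ ∈ L) : Nat.card D ≤ Nat.card L * p ^ 2 := by
  classical
  have hmul : Nat.card (Subgroup.centralizer ({x} : Set G) ⊓ D : Subgroup G) *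
      ((Subgroup.centralizer ({x} : Set G)).subgroupOf D).index = Nat.card D := by
    rw [← Nat.card_congr (Subgroup.subgroupOfEquivOfLe
      (inf_le_right : Subgroup.centralizer ({x} : Set G) ⊓ D ≤ D)).toEquiv,
      Subgroup.inf_subgroupOf_right, Subgroup.card_mul_index]
  let f : D → L := fun g => ⟨x⁻¹ * g * x * (g : G)⁻¹, hL g g.2⟩
  have hidx : ((Subgroup.centralizer ({x} : Set G)).subgroupOf D).index ≤ Nat.card L := by
    rw [Subgroup.index_eq_card]
    refine Nat.card_le_card_of_injective (fun q => f q.out) fun q q' hqq => ?_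
    rw [← QuotientGroup.out_eq' q, ← QuotientGroup.out_eq' q', QuotientGroup.eq]
    have e := congrArg Subtype.val hqq
    simp only [f] at e
    rw [Subgroup.mem_subgroupOf, Subgroup.mem_centralizer_singleton_iff]
    have e1 : ((q.out : D) : G) * x * ((q.out : D) : G)⁻¹ =
        ((q'.out : D) : G) * x * ((q'.out : D) : G)⁻¹ := mul_left_cancel (by
      simpa only [mul_assoc] using e)
    show ((q.out : D) : G)⁻¹ * (q'.out : D) * x = x * (((q.out : D) : G)⁻¹ * (q'.out : D))
    calc ((q.out : D) : G)⁻¹ * (q'.out : D) * x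
        = ((q.out : D) : G)⁻¹ * (((q'.out : D) : G) * x * ((q'.out : D) : G)⁻¹) * (q'.out : D) := by
          group
      _ = ((q.out : D) : G)⁻¹ * (((q.out : D) : G) * x * ((q.out : D) : G)⁻¹) * (q'.out : D) := by
          rw [e1]
      _ = x * (((q.out : D) : G)⁻¹ * (q'.out : D)) := by group
  have hc : Nat.card (Subgroup.centralizer ({x} : Set G) ⊓ D : Subgroup G) ≤ p ^ 2 := by
    rw [← h.cent]
    exact Subgroup.card_le_of_le (fun g hg => ⟨hD hg.2, hg.1⟩)
  calc Nat.card D = _ := hmul.symm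
    _ ≤ p ^ 2 * Nat.card L := Nat.mul_le_mul hc hidx
    _ = _ := Nat.mul_comm _ _

theorem comm_mem_lay {g : G} (hg : g ∈ S) : x⁻¹ * g * x * g⁻¹ ∈ Lay S n (n - 2) := by
  have h3 := h.three_le
  show _ ∈ S.lowerCentralSeries (n - 1 - (n - 2))
  rw [show n - 1 - (n - 2) = 1 by omega,
    show x⁻¹ * g * x * g⁻¹ = ⁅x⁻¹, g⁆ by simp [commutatorElement_def]]
  exact Subgroup.commutator_mem_commutator (inv_mem h.mem) hg

/-- The class of `x` in `S` is the whole coset of the derived subgroup. -/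
theorem exists_conj_eq {w : G} (hw : w ∈ Lay S n (n - 2)) : ∃ g ∈ S, g * x * g⁻¹ = x * w := by
  classical
  have h3 := h.three_le
  let C := (Subgroup.centralizer ({x} : Set G)).subgroupOf S
  let f : (S ⧸ C) → ↥(Lay S n (n - 2)) :=
    fun q => ⟨x⁻¹ * q.out * x * ((q.out : S) : G)⁻¹, h.comm_mem_lay q.out.2⟩
  have hinj : Function.Injective f := fun q q' hqq => by
    rw [← QuotientGroup.out_eq' q, ← QuotientGroup.out_eq' q', QuotientGroup.eq]
    have e := congrArg Subtype.val hqq
    simp only [f] at e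
    rw [Subgroup.mem_subgroupOf, Subgroup.mem_centralizer_singleton_iff]
    have e1 : ((q.out : S) : G) * x * ((q.out : S) : G)⁻¹ =
        ((q'.out : S) : G) * x * ((q'.out : S) : G)⁻¹ := mul_left_cancel (by
      simpa only [mul_assoc] using e)
    show ((q.out : S) : G)⁻¹ * (q'.out : S) * x = x * (((q.out : S) : G)⁻¹ * (q'.out : S))
    calc ((q.out : S) : G)⁻¹ * (q'.out : S) * x
        = ((q.out : S) : G)⁻¹ * (((q'.out : S) : G) * x * ((q'.out : S) : G)⁻¹) * (q'.out : S) := by
          group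
      _ = ((q.out : S) : G)⁻¹ * (((q.out : S) : G) * x * ((q.out : S) : G)⁻¹) * (q'.out : S) := by
          rw [e1]
      _ = x * (((q.out : S) : G)⁻¹ * (q'.out : S)) := by group
  have hcard : Nat.card (S ⧸ C) = Nat.card ↥(Lay S n (n - 2)) := by
    have h1 : Nat.card ↥((Subgroup.centralizer ({x} : Set G)).subgroupOf S) * C.index = Nat.card S :=
      Subgroup.card_mul_index C
    rw [← Subgroup.inf_subgroupOf_left,
      Nat.card_congr (Subgroup.subgroupOfEquivOfLe
        (inf_le_left : S ⊓ Subgroup.centralizer ({x} : Set G) ≤ S)).toEquiv, h.cent, h.card] at h1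
    rw [h.lay (n - 2) (by omega), ← Subgroup.index_eq_card]
    refine Nat.eq_of_mul_eq_mul_left (pow_pos hp.out.pos 2) ?_
    rw [← pow_add, show 2 + (n - 2) = n by omega]
    exact h1
  obtain ⟨q, hq⟩ := ((Nat.bijective_iff_injective_and_card f).mpr ⟨hinj, hcard⟩).2 ⟨w, hw⟩
  refine ⟨q.out, q.out.2, ?_⟩
  have hq' := congrArg Subtype.val hq
  simp only [f] at hq'
  rw [← hq']
  group

theorem notMem_lay_two (h4 : 4 ≤ n) : x ∉ Lay S n 2 := fun hx => by
  have h1 := h.card_le_of_comm_mem S (Lay S n 1) le_rfl fun g hg => by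
    show _ ∈ S.lowerCentralSeries (n - 1 - 1)
    rw [show n - 1 - 1 = (n - 1 - 2) + 1 by omega, Subgroup.lowerCentralSeries_succ,
      show x⁻¹ * g * x * g⁻¹ = ⁅x⁻¹, g⁆ by simp [commutatorElement_def]]
    exact Subgroup.commutator_mem_commutator (inv_mem hx) hg
  rw [h.card, h.lay 1 h.three_le, pow_one, ← pow_succ', Nat.pow_le_pow_iff_right hp.out.one_lt] at h1
  omega

/-- A moved bottom layer gives a conjugate of `x` in it. -/
theorem exists_mem_of_moves (hm : Moves S n x 0) :
    ∃ g : G, x ∈ (Lay S n 1).map (MulAut.conj g).toMonoidHom := by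
  obtain ⟨t, ht, htZ⟩ := hm
  rw [zero_add] at ht htZ
  obtain ⟨y, hy, hyZ⟩ := SetLike.not_le_iff_exists.mp htZ
  obtain ⟨a, ha, z, hz, hyaz⟩ : ∃ a ∈ Subgroup.zpowers x, ∃ z ∈ Lay S n 1, a * z = y := by
    have h1 := ht (Subgroup.map_mono le_sup_right hy)
    rw [← SetLike.mem_coe, Subgroup.coe_mul_of_left_le_normalizer_right _ _
      ((Subgroup.zpowers_le.mpr h.mem).trans (le_normalizer_lay S n 1)), Set.mem_mul] at h1
    exact h1
  obtain ⟨i, rfl⟩ := Subgroup.mem_zpowers_iff.mp ha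
  have hi : ¬ (p : ℤ) ∣ i := fun ⟨k, hk⟩ => hyZ (by
    rw [← hyaz, hk, zpow_mul, zpow_natCast]
    exact mul_mem (zpow_mem h.pow_mem_lay_one k) hz)
  have hbez : Int.gcd i p = 1 :=
    Int.isCoprime_iff_gcd_eq_one.mp
      (((Nat.prime_iff_prime_int.mp hp.out).coprime_iff_not_dvd.mpr hi).symm)
  obtain ⟨u, v, huv⟩ : ∃ u v : ℤ, i * u + p * v = 1 :=
    ⟨Int.gcdA i p, Int.gcdB i p, by rw [← Int.gcd_eq_gcd_ab, hbez]; rfl⟩
  have hxz : Commute (x ^ i) z := by
    refine Commute.zpow_left ?_ i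
    exact (h.commute_lay_one hz h.mem).symm
  obtain ⟨r, hr, hrx⟩ := h.exists_conj_eq (w := (x ^ p) ^ (-v) * z ^ u * (x ^ p) ^ (0 : ℤ))
    (lay_mono S n (show 1 ≤ n - 2 by have := h.three_le; omega)
      (mul_mem (mul_mem (zpow_mem h.pow_mem_lay_one _) (zpow_mem hz u)) (zpow_mem h.pow_mem_lay_one _)))
  have hyu : y ^ u = x * ((x ^ p) ^ (-v) * z ^ u * (x ^ p) ^ (0 : ℤ)) := by
    rw [← hyaz, hxz.mul_zpow, zpow_zero, mul_one, ← mul_assoc, ← zpow_mul, ← zpow_natCast x p,
      ← zpow_mul]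
    congr 1
    rw [← zpow_one_add, show i * u = 1 + (p : ℤ) * -v by linarith]
  refine ⟨r⁻¹ * t, ?_⟩
  obtain ⟨z₀, hz₀, hz₀e⟩ := (Subgroup.mem_map.mp (zpow_mem hy u) : ∃ z₀ ∈ Lay S n 1, _)
  refine Subgroup.mem_map.mpr ⟨z₀, hz₀, ?_⟩
  rw [hyu, ← hrx] at hz₀e
  simp only [MulEquiv.coe_toMonoidHom, MulAut.conj_apply] at hz₀e ⊢
  rw [show r⁻¹ * t * z₀ * (r⁻¹ * t)⁻¹ = r⁻¹ * (t * z₀ * t⁻¹) * r by group, hz₀e]
  group

/-- Two steps down nothing moves: the third layer is the only abelian subgroup of its order. -/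
theorem not_moves_two (h5 : 5 ≤ n) : ¬ Moves S n x 2 := by
  classical
  rintro ⟨t, ht, htL⟩
  rw [show 2 + 1 = 3 from rfl] at ht htL
  set B := Lay S n 3 with hB
  set E := Subgroup.zpowers x ⊔ B with hE
  set A := B.map (MulAut.conj t).toMonoidHom with hA
  have hxB : x ∉ B := fun hx => htL (by
    have hEB : E = B := sup_eq_right.mpr (Subgroup.zpowers_le.mpr hx)
    rwa [hEB] at ht)
  have hBc : Nat.card B = p ^ 3 := h.lay 3 (by omega)
  have hBS : B ≤ S := lay_le S n 3
  have hBcomm : ∀ a ∈ B, ∀ b ∈ B, a * b = b * a := by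
    have hcen : ∀ a ∈ B, ∀ b ∈ Lay S n 2, a * b = b * a := by
      intro a ha b hb
      rw [← commutatorElement_eq_one_iff_mul_comm, ← Subgroup.mem_bot, ← h.lay_zero]
      rw [hB] at ha
      have h1 := CfsgLib.Regular.lcs_commutator_le (G := S) (n - 1 - 3) (n - 1 - 2)
      have h2 := Subgroup.map_mono (f := S.subtype) h1
      rw [Subgroup.map_commutator, Subgroup.top_subtype_lowerCentralSeries,
        Subgroup.top_subtype_lowerCentralSeries, Subgroup.top_subtype_lowerCentralSeries] at h2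
      exact S.lowerCentralSeries_antitone (show n - 1 - 0 ≤ _ by omega)
        (h2 (Subgroup.commutator_mem_commutator ha hb))
    intro a ha b hb
    haveI hn : ((Lay S n 2).subgroupOf B).Normal :=
      (Subgroup.normal_subgroupOf_iff_le_normalizer (lay_mono S n (by omega))).mpr
        (hBS.trans (le_normalizer_lay S n 2))
    have hq : Nat.card (B ⧸ (Lay S n 2).subgroupOf B) = p := by
      have h1 := Subgroup.card_mul_index ((Lay S n 2).subgroupOf B)
      rw [Nat.card_congr (Subgroup.subgroupOfEquivOfLe (lay_mono S n (show 2 ≤ 3 by omega))).toEquiv,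
        hBc, h.lay 2 (by omega), Subgroup.index_eq_card, pow_succ (p) 2] at h1
      exact Nat.eq_of_mul_eq_mul_left (pow_pos hp.out.pos 2) h1
    haveI := isCyclic_of_prime_card hq
    exact congrArg Subtype.val (commutative_of_cyclic_center_quotient
      (QuotientGroup.mk' ((Lay S n 2).subgroupOf B)) (fun q hq' => Subgroup.mem_center_iff.mpr
        fun u => Subtype.ext (hcen u u.2 q (by
          rwa [QuotientGroup.ker_mk', Subgroup.mem_subgroupOf] at hq'))) ⟨a, ha⟩ ⟨b, hb⟩)
  have hxp : x ^ p ∈ B := lay_mono S n (by omega) h.pow_mem_lay_one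
  have hnx : Subgroup.zpowers x ≤ Subgroup.normalizer (B : Set G) :=
    (Subgroup.zpowers_le.mpr h.mem).trans (le_normalizer_lay S n 3)
  have hES : E ≤ S := sup_le (Subgroup.zpowers_le.mpr h.mem) hBS
  have hAS : A ≤ S := ((Subgroup.map_mono (le_sup_right : B ≤ E)).trans ht).trans hES
  have hBE : B.relIndex E ≤ p := by
    haveI : (B.subgroupOf E).Normal :=
      (Subgroup.normal_subgroupOf_iff_le_normalizer le_sup_right).mpr
        (sup_le hnx Subgroup.le_normalizer)
    rw [Subgroup.relIndex, Subgroup.index_eq_card]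
    have hgen : ∀ q : E ⧸ B.subgroupOf E,
        q ∈ Subgroup.zpowers (QuotientGroup.mk ⟨x, Subgroup.mem_sup_left (Subgroup.mem_zpowers x)⟩ :
          E ⧸ B.subgroupOf E) := by
      intro q
      obtain ⟨⟨e, he⟩, rfl⟩ := QuotientGroup.mk_surjective q
      have h1 := he
      rw [hE, ← SetLike.mem_coe, Subgroup.coe_mul_of_left_le_normalizer_right _ _ hnx,
        Set.mem_mul] at h1
      obtain ⟨a, ha, b, hb, rfl⟩ := h1
      obtain ⟨k, rfl⟩ := Subgroup.mem_zpowers_iff.mp ha
      refine ⟨k, ?_⟩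
      show _ ^ k = _
      rw [← QuotientGroup.mk_zpow, QuotientGroup.eq, Subgroup.mem_subgroupOf]
      simpa using hb
    rw [← orderOf_eq_card_of_forall_mem_zpowers hgen]
    refine Nat.le_of_dvd hp.out.pos (orderOf_dvd_of_pow_eq_one ?_)
    rw [← QuotientGroup.mk_pow, QuotientGroup.eq_one_iff, Subgroup.mem_subgroupOf]
    exact hxp
  have hAE : A ≤ E := (Subgroup.map_mono le_sup_right).trans ht
  have hAc : Nat.card A = p ^ 3 := by
    rw [hA, Subgroup.card_map_of_injective (MulEquiv.injective _), hBc]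
  have hI : p ^ 2 ≤ Nat.card (B ⊓ A : Subgroup G) := by
    have h1 := Subgroup.card_mul_index (B.subgroupOf A)
    rw [← Subgroup.inf_subgroupOf_right, Nat.card_congr (Subgroup.subgroupOfEquivOfLe
      (inf_le_right : B ⊓ A ≤ A)).toEquiv, Subgroup.inf_subgroupOf_right, hAc] at h1
    have h2 : (B.subgroupOf A).index ≤ p :=
      (Subgroup.relIndex_le_of_le_right hAE (Subgroup.FiniteIndex.index_ne_zero
        (H := B.subgroupOf E))).trans hBE
    refine Nat.le_of_mul_le_mul_right ?_ hp.out.pos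
    rw [← pow_succ, ← h1]
    exact Nat.mul_le_mul_left _ h2
  have hAcomm : ∀ a ∈ A, ∀ b ∈ A, a * b = b * a := by
    rintro _ ⟨a, ha, rfl⟩ _ ⟨b, hb, rfl⟩
    rw [← map_mul, ← map_mul, hBcomm a ha b hb]
  have hxAB : x ∈ A ⊔ B := by
    by_contra hx
    have hABE : A ⊔ B ≤ E := sup_le hAE le_sup_right
    obtain ⟨a, ha⟩ := IsPGroup.iff_card.mp (h.pgroup.to_le (hABE.trans hES))
    have h1 : Nat.card ↥(A ⊔ B) < Nat.card E := lt_of_not_ge fun hge =>
      hx (Subgroup.eq_of_le_of_card_ge hABE hge ▸ Subgroup.mem_sup_left (Subgroup.mem_zpowers x))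
    have h2 : Nat.card E ≤ p ^ 4 := by
      rw [← Subgroup.card_mul_index (B.subgroupOf E),
        Nat.card_congr (Subgroup.subgroupOfEquivOfLe (le_sup_right : B ≤ E)).toEquiv, hBc,
        pow_succ p 3]
      exact Nat.mul_le_mul_left _ hBE
    have h3 := h1.trans_le h2
    rw [ha, Nat.pow_lt_pow_iff_right hp.out.one_lt] at h3
    refine htL ((le_sup_left : A ≤ A ⊔ B).trans (le_of_eq (Subgroup.eq_of_le_of_card_ge le_sup_right ?_).symm))
    rw [hBc, ha]
    exact Nat.pow_le_pow_right hp.out.pos (by omega)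
  have hIC : B ⊓ A ≤ Subgroup.centralizer ({x} : Set G) := fun i hi =>
    Subgroup.mem_centralizer_singleton_iff.mpr (by
      have h1 : A ⊔ B ≤ Subgroup.centralizer ({i} : Set G) := sup_le
        (fun a ha => Subgroup.mem_centralizer_singleton_iff.mpr (hAcomm a ha i hi.2))
        (fun b hb => Subgroup.mem_centralizer_singleton_iff.mpr (hBcomm b hb i hi.1))
      exact (Subgroup.mem_centralizer_singleton_iff.mp (h1 hxAB)).symm)
  have hIeq : B ⊓ A = S ⊓ Subgroup.centralizer ({x} : Set G) :=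
    Subgroup.eq_of_le_of_card_ge (le_inf (inf_le_left.trans hBS) hIC) (h.cent.symm ▸ hI)
  have hxI : x ∈ B ⊓ A := hIeq ▸ ⟨h.mem, Subgroup.mem_centralizer_singleton_iff.mpr rfl⟩
  exact hxB hxI.1

end Ctx

end CfsgLib.MaxClassSylow
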