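import Mathlib
import Cfsg.Agent.Lib.MaxClassSylow.Basic
import Cfsg.Agent.Lib.IsolatedMin.Basic

/-!
Fusion of elements with centralizer of order `p ^ 2` in a Sylow subgroup of maximal class.
-/

set_option autoImplicit false
set_option linter.style.haveILetI false
set_option linter.unusedSectionVars false

open scoped commutatorElement Pointwise

namespace CfsgLib.MaxClassSylow

universe u

section

variable {G : Type u} [Group G] [Finite G] {p : ℕ} [hp : Fact p.Prime] {n : ℕ} {S : Subgroup G}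
  {x : G}

namespace Ctx

variable (h : Ctx p n S x)

include h

theorem mem_lay_one_of_central {s : G} (hs : s ∈ S) (hc : ∀ g ∈ S, s * g = g * s) :
    s ∈ Lay S n 1 := by
  by_contra hn
  have hle : Subgroup.zpowers s ⊔ Lay S n 1 ≤ Subgroup.zpowers x ⊔ Lay S n 1 := by
    rw [← h.cent_eq]
    exact sup_le (Subgroup.zpowers_le.mpr ⟨hs, Subgroup.mem_centralizer_singleton_iff.mpr
      (hc x h.mem)⟩) h.lay_one_le_cent
  have hQ : Nat.card ↥(Subgroup.zpowers x ⊔ Lay S n 1) = p ^ 2 := by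
    rw [← h.cent_eq]; exact h.cent
  obtain ⟨a, ha⟩ := IsPGroup.iff_card.mp (h.pgroup.to_le
    (sup_le (Subgroup.zpowers_le.mpr hs) (lay_le S n 1) : Subgroup.zpowers s ⊔ Lay S n 1 ≤ S))
  have ha2 : 2 ≤ a := by
    by_contra hlt
    refine hn ((Subgroup.eq_of_le_of_card_ge (le_sup_right : Lay S n 1 ≤
      Subgroup.zpowers s ⊔ Lay S n 1) ?_).symm ▸ Subgroup.mem_sup_left (Subgroup.mem_zpowers s))
    rw [ha, h.lay 1 h.three_le]
    exact Nat.pow_le_pow_right hp.out.pos (by omega)
  have heq := Subgroup.eq_of_le_of_card_ge hle (by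
    rw [ha, hQ]; exact Nat.pow_le_pow_right hp.out.pos ha2)
  have hS : S ≤ Subgroup.centralizer
      ((Subgroup.zpowers s ⊔ Lay S n 1 : Subgroup G) : Set G) := by
    refine Subgroup.le_centralizer_iff.mpr (sup_le ?_ ?_)
    · exact Subgroup.zpowers_le.mpr fun g hg => (hc g hg).symm
    · exact fun z hz g hg => (h.commute_lay_one hz hg).symm
  have hx : x ∈ Subgroup.zpowers s ⊔ Lay S n 1 :=
    heq.symm ▸ Subgroup.mem_sup_left (Subgroup.mem_zpowers x)
  have h1 : S ⊓ Subgroup.centralizer ({x} : Set G) = S := inf_eq_left.mpr fun g hg =>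
    Subgroup.mem_centralizer_singleton_iff.mpr (hS hg x hx).symm
  have h2 := h.cent
  rw [h1, h.card] at h2
  have := Nat.pow_right_injective hp.out.two_le h2
  have := h.three_le
  omega

theorem lay_one_le_of_normal {D : Subgroup G} (hDS : D ≤ S)
    (hD : S ≤ Subgroup.normalizer (D : Set G)) (hne : D ≠ ⊥) : Lay S n 1 ≤ D := by
  haveI : (D.subgroupOf S).Normal := (Subgroup.normal_subgroupOf_iff_le_normalizer hDS).mpr hD
  have hne' : D.subgroupOf S ≠ ⊥ := fun e => by
    rw [Subgroup.subgroupOf_eq_bot, disjoint_iff, inf_eq_left.mpr hDS] at e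
    exact hne e
  obtain ⟨c, hc, hc1⟩ := Subgroup.ne_bot_iff_exists_ne_one.mp
    (IsolatedMin.inf_center_ne_bot h.pgroup (D.subgroupOf S) hne') |>.elim
      fun c hc => (⟨c.1, c.2, fun e => hc (Subtype.ext e)⟩ : ∃ c : S, c ∈ D.subgroupOf S ⊓ Subgroup.center S ∧ c ≠ 1)
  have hcl : (c : G) ∈ Lay S n 1 := h.mem_lay_one_of_central c.2 fun g hg =>
    (congrArg Subtype.val (Subgroup.mem_center_iff.mp hc.2 ⟨g, hg⟩)).symm
  haveI : Fact (Nat.card (Lay S n 1)).Prime := ⟨by rw [h.lay 1 h.three_le, pow_one]; exact hp.out⟩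
  rcases (D.subgroupOf (Lay S n 1)).eq_bot_or_eq_top_of_prime_card with e | e
  · have : (⟨(c : G), hcl⟩ : Lay S n 1) ∈ D.subgroupOf (Lay S n 1) := hc.1
    rw [e, Subgroup.mem_bot] at this
    exact absurd (Subtype.ext (congrArg Subtype.val this :) : c = 1) hc1
  · exact Subgroup.subgroupOf_eq_top.mp e

end Ctx

end

section Quot

variable {G : Type u} [Group G] [Finite G] {p : ℕ} [hp : Fact p.Prime] {n : ℕ}

/-- The centralizer of the bottom layer. -/
abbrev cen (S : Subgroup G) (n : ℕ) : Subgroup G := Subgroup.centralizer (Lay S n 1 : Set G)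

instance (S : Subgroup G) (n : ℕ) : ((Lay S n 1).subgroupOf (cen S n)).Normal :=
  ⟨fun z hz g => by
    rw [Subgroup.mem_subgroupOf] at hz ⊢
    have := g.2 _ hz
    simpa [← this] using hz⟩

/-- The quotient map from the centralizer of the bottom layer. -/
abbrev q (S : Subgroup G) (n : ℕ) : cen S n →* cen S n ⧸ (Lay S n 1).subgroupOf (cen S n) :=
  QuotientGroup.mk' _

/-- The image of a subgroup in that quotient. -/
abbrev im (S : Subgroup G) (n : ℕ) (K : Subgroup G) :
    Subgroup (cen S n ⧸ (Lay S n 1).subgroupOf (cen S n)) :=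
  (K.subgroupOf (cen S n)).map (q S n)

variable {S : Subgroup G} {x : G}

theorem q_eq_one {g : cen S n} : q S n g = 1 ↔ (g : G) ∈ Lay S n 1 :=
  (QuotientGroup.eq_one_iff g).trans Subgroup.mem_subgroupOf

theorem mem_im {K : Subgroup G} (hK : Lay S n 1 ≤ K) {g : cen S n} :
    q S n g ∈ im S n K ↔ (g : G) ∈ K := by
  refine ⟨fun hg => ?_, fun hg => Subgroup.mem_map_of_mem _ hg⟩
  obtain ⟨k, hk, hkg⟩ := Subgroup.mem_map.mp hg
  have h1 : q S n (k⁻¹ * g) = 1 := by rw [map_mul, map_inv, hkg, inv_mul_cancel]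
  have h2 := mul_mem (Subgroup.mem_subgroupOf.mp hk) (hK (q_eq_one.mp h1))
  simpa using h2

theorem card_im {K : Subgroup G} (hZ : Lay S n 1 ≤ K) (hK : K ≤ cen S n) :
    Nat.card (im S n K) * Nat.card (Lay S n 1) = Nat.card K := by
  set f := (q S n).comp (Subgroup.inclusion hK) with hf
  have hr : f.range = im S n K := by
    rw [hf, MonoidHom.range_comp, Subgroup.inclusion_range]
  have hk : f.ker = (Lay S n 1).subgroupOf K := by
    ext g
    rw [MonoidHom.mem_ker, Subgroup.mem_subgroupOf]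
    exact q_eq_one
  have h1 := f.ker.card_mul_index
  rw [Subgroup.index_ker, hk, hr, Nat.card_congr (Subgroup.subgroupOfEquivOfLe hZ).toEquiv] at h1
  rw [mul_comm]
  exact h1

theorem map_comap_le {K K' : Subgroup G} (hZ : Lay S n 1 ≤ K') {t : cen S n}
    (h : (im S n K).map (MulAut.conj (q S n t)).toMonoidHom ≤ im S n K') {g : G}
    (hg : g ∈ K) (hgc : g ∈ cen S n) : (t : G) * g * (t : G)⁻¹ ∈ K' := by
  have h1 : q S n (t * ⟨g, hgc⟩ * t⁻¹) ∈ im S n K' := h ⟨q S n ⟨g, hgc⟩,
    Subgroup.mem_map_of_mem _ hg, by simp [MulAut.conj_apply]⟩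
  exact (mem_im hZ).mp h1

namespace Ctx

variable (h : Ctx p n S x)

include h

theorem le_cen : S ≤ cen S n := h.le_centralizer_lay_one

theorem lay_im {j : ℕ} (hj : j + 2 ≤ n) :
    Lay (im S n S) (n - 1) j = im S n (Lay S n (j + 1)) := by
  have h1 : (S.subgroupOf (cen S n)).lowerCentralSeries (n - 1 - 1 - j) =
      (Lay S n (j + 1)).subgroupOf (cen S n) := by
    apply Subgroup.map_injective (cen S n).subtype_injective
    rw [Subgroup.map_lowerCentralSeries, Subgroup.map_subgroupOf_eq_of_le h.le_cen,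
      Subgroup.map_subgroupOf_eq_of_le ((lay_le S n _).trans h.le_cen),
      show n - 1 - 1 - j = n - 1 - (j + 1) by omega]
  show (im S n S).lowerCentralSeries (n - 1 - 1 - j) = _
  rw [← Subgroup.map_lowerCentralSeries, h1]

theorem ctx_im (h4 : 4 ≤ n) :
    Ctx p (n - 1) (im S n S) (q S n ⟨x, h.le_cen h.mem⟩) := by
  classical
  set M := cen S n with hM
  set xM : M := ⟨x, h.le_cen h.mem⟩ with hxM
  have hp0 := hp.out.pos
  have hZ1 : Nat.card (Lay S n 1) = p := by rw [h.lay 1 h.three_le, pow_one]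
  have hlay : ∀ j, j + 2 ≤ n - 1 → Nat.card (Lay (im S n S) (n - 1) j) = p ^ j := fun j hj => by
    rw [h.lay_im (by omega)]
    refine Nat.eq_of_mul_eq_mul_right hp0 ?_
    rw [← pow_succ, ← h.lay (j + 1) (by omega), ← card_im (lay_mono S n (by omega))
      ((lay_le S n _).trans h.le_cen), hZ1]
  refine ⟨by omega, ?_, hlay, Subgroup.mem_map_of_mem _ h.mem, ?_⟩
  · refine Nat.eq_of_mul_eq_mul_right hp0 ?_
    rw [← pow_succ, show n - 1 + 1 = n by omega]
    conv_lhs => arg 2; rw [← hZ1]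
    rw [card_im (lay_le S n 1) h.le_cen, h.card]
  · set C := Subgroup.centralizer ({q S n xM} : Set (M ⧸ (Lay S n 1).subgroupOf M)) with hC
    set D := ((C.comap (q S n)) ⊓ S.subgroupOf M).map M.subtype with hD
    have hDS : D ≤ S := by
      rintro _ ⟨g, hg, rfl⟩
      exact hg.2
    have hDL : ∀ g ∈ D, x⁻¹ * g * x * g⁻¹ ∈ Lay S n 1 := by
      rintro _ ⟨g, hg, rfl⟩
      refine (q_eq_one (g := xM⁻¹ * g * xM * g⁻¹)).mp ?_
      have hgc := Subgroup.mem_centralizer_singleton_iff.mp (Subgroup.mem_comap.mp hg.1)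
      rw [map_mul, map_mul, map_mul, map_inv, map_inv, mul_assoc (q S n xM)⁻¹, hgc]
      group
    have hZD : Lay S n 1 ≤ D := fun z hz => by
      have hzM : z ∈ M := h.le_cen (lay_le S n 1 hz)
      refine ⟨⟨z, hzM⟩, ⟨?_, lay_le S n 1 hz⟩, rfl⟩
      show q S n ⟨z, hzM⟩ ∈ C
      rw [(q_eq_one (g := (⟨z, hzM⟩ : M))).mpr hz]
      exact one_mem _
    have himD : im S n D = im S n S ⊓ C := by
      ext w
      obtain ⟨w, rfl⟩ := QuotientGroup.mk'_surjective _ w
      rw [mem_im hZD, Subgroup.mem_inf, mem_im (lay_le S n 1), hD]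
      refine ⟨?_, fun hw => ⟨w, ⟨hw.2, hw.1⟩, rfl⟩⟩
      rintro ⟨g, hg, hgw⟩
      rw [Subtype.ext hgw] at hg
      exact ⟨hg.2, hg.1⟩
    have hupper : Nat.card (im S n S ⊓ C : Subgroup _) ≤ p ^ 2 := by
      refine Nat.le_of_mul_le_mul_right ?_ hp0
      conv_lhs => arg 2; rw [← hZ1]
      rw [← himD, card_im hZD (hDS.trans h.le_cen)]
      refine (h.card_le_of_comm_mem D (Lay S n 1) hDS hDL).trans ?_
      rw [hZ1, mul_comm]
    refine le_antisymm hupper ?_
    have hxC : q S n xM ∈ im S n S ⊓ C :=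
      ⟨Subgroup.mem_map_of_mem _ h.mem, Subgroup.mem_centralizer_singleton_iff.mpr rfl⟩
    have hx2 : q S n xM ∉ Lay (im S n S) (n - 1) 1 := fun hx => by
      rw [h.lay_im (by omega), mem_im (lay_mono S n (by omega))] at hx
      exact h.notMem_lay_two h4 hx
    have hle : Lay (im S n S) (n - 1) 1 ≤ im S n S ⊓ C := by
      rw [h.lay_im (by omega)]
      rintro _ ⟨g, hg, rfl⟩
      refine ⟨Subgroup.mem_map_of_mem _ (lay_le S n 2 hg), ?_⟩
      refine Subgroup.mem_centralizer_singleton_iff.mpr ?_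
      rw [← commutatorElement_eq_one_iff_mul_comm, ← map_commutatorElement, q_eq_one]
      show ⁅(g : G), x⁆ ∈ Lay S n 1
      show _ ∈ S.lowerCentralSeries (n - 1 - 1)
      rw [show n - 1 - 1 = (n - 1 - 2) + 1 by omega, Subgroup.lowerCentralSeries_succ]
      exact Subgroup.commutator_mem_commutator hg h.mem
    obtain ⟨a, ha⟩ := IsPGroup.iff_card.mp
      (((h.pgroup.comap_of_injective M.subtype M.subtype_injective).map (q S n)).to_le
        (inf_le_left : im S n S ⊓ C ≤ im S n S))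
    rw [ha]
    refine Nat.pow_le_pow_right hp0 ?_
    by_contra hlt
    refine hx2 ((Subgroup.eq_of_le_of_card_ge hle ?_).symm ▸ hxC)
    rw [ha, hlay 1 (by omega)]
    exact Nat.pow_le_pow_right hp0 (by omega)

theorem card_centralizer_im :
    Nat.card (Subgroup.centralizer
        ({q S n ⟨x, h.le_cen h.mem⟩} : Set (cen S n ⧸ (Lay S n 1).subgroupOf (cen S n)))) =
      Nat.card (Subgroup.centralizer ({x} : Set G) ⊓ cen S n : Subgroup G) := by
  classical
  have h3 := h.three_le
  set M := cen S n with hM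
  set xM : M := ⟨x, h.le_cen h.mem⟩ with hxM
  set C := Subgroup.centralizer ({q S n xM} : Set (M ⧸ (Lay S n 1).subgroupOf M)) with hC
  set D := C.comap (q S n) with hD
  have hmem : ∀ g : D, (xM : G)⁻¹ * ((g : M) : G) * x * ((g : M) : G)⁻¹ ∈ Lay S n 1 := fun g => by
    refine (q_eq_one (g := xM⁻¹ * (g : M) * xM * (g : M)⁻¹)).mp ?_
    have hgc := Subgroup.mem_centralizer_singleton_iff.mp (Subgroup.mem_comap.mp g.2)
    rw [map_mul, map_mul, map_mul, map_inv, map_inv, mul_assoc (q S n xM)⁻¹, hgc]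
    group
  let φ : D →* Lay S n 1 :=
    { toFun := fun g => ⟨x⁻¹ * ((g : M) : G) * x * ((g : M) : G)⁻¹, hmem g⟩
      map_one' := by ext; simp
      map_mul' := fun a b => by
        ext
        show x⁻¹ * (((a : M) : G) * ((b : M) : G)) * x * (((a : M) : G) * ((b : M) : G))⁻¹ =
          x⁻¹ * ((a : M) : G) * x * ((a : M) : G)⁻¹ * (x⁻¹ * ((b : M) : G) * x * ((b : M) : G)⁻¹)
        have hb := (a : M).2 _ (hmem b)
        rw [← mul_assoc (x⁻¹ * ((a : M) : G) * x * ((a : M) : G)⁻¹)]
        calc x⁻¹ * (((a : M) : G) * ((b : M) : G)) * x * (((a : M) : G) * ((b : M) : G))⁻¹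
            = x⁻¹ * ((a : M) : G) * x * (x⁻¹ * ((b : M) : G) * x * ((b : M) : G)⁻¹) *
                ((a : M) : G)⁻¹ := by group
          _ = x⁻¹ * ((a : M) : G) * x * (((a : M) : G)⁻¹ *
                ((x⁻¹ * ((b : M) : G) * x * ((b : M) : G)⁻¹) * ((a : M) : G)) * ((a : M) : G)⁻¹) := by
              rw [hxM] at hb
              rw [hb]; group
          _ = _ := by group }
  have hker : Nat.card φ.ker = Nat.card (Subgroup.centralizer ({x} : Set G) ⊓ M : Subgroup G) := by
    refine Nat.card_congr (Equiv.ofBijective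
      (fun g => ⟨((g.1 : M) : G), ?_, (g.1 : M).2⟩) ⟨?_, ?_⟩)
    · have h1 : x⁻¹ * ((g.1 : M) : G) * x * ((g.1 : M) : G)⁻¹ = 1 := congrArg Subtype.val g.2
      refine Subgroup.mem_centralizer_singleton_iff.mpr ?_
      rw [mul_inv_eq_one, mul_assoc, inv_mul_eq_iff_eq_mul] at h1
      exact h1
    · exact fun a b e => Subtype.ext (Subtype.ext (Subtype.ext (congrArg Subtype.val e :)))
    · rintro ⟨g, hgC, hgM⟩
      have hgx := Subgroup.mem_centralizer_singleton_iff.mp hgC
      refine ⟨⟨⟨⟨g, hgM⟩, ?_⟩, ?_⟩, rfl⟩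
      · refine Subgroup.mem_centralizer_singleton_iff.mpr ?_
        rw [← map_mul, ← map_mul]
        exact congrArg _ (Subtype.ext hgx)
      · exact Subtype.ext (show x⁻¹ * g * x * g⁻¹ = 1 by
          rw [mul_inv_eq_one, mul_assoc, hgx, inv_mul_cancel_left])
  have hsurj : φ.range = ⊤ := by
    rw [MonoidHom.range_eq_top]
    intro z
    obtain ⟨r, hr, hrx⟩ := h.exists_conj_eq
      (lay_mono S n (show 1 ≤ n - 2 by omega) z.2)
    refine ⟨⟨⟨r, h.le_cen hr⟩, ?_⟩, Subtype.ext ?_⟩
    · refine Subgroup.mem_centralizer_singleton_iff.mpr ?_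
      rw [← commutatorElement_eq_one_iff_mul_comm, ← map_commutatorElement, q_eq_one]
      show r * x * r⁻¹ * x⁻¹ ∈ Lay S n 1
      rw [hrx, ← h.commute_lay_one z.2 h.mem]
      simp
    · show x⁻¹ * r * x * r⁻¹ = z
      rw [mul_assoc x⁻¹, mul_assoc x⁻¹, hrx, inv_mul_cancel_left]
  have h1 := φ.ker.card_mul_index
  rw [Subgroup.index_ker, hsurj, Subgroup.card_top, hker] at h1
  set f := (q S n).comp D.subtype with hf
  have hfr : f.range = C := by
    rw [hf, MonoidHom.range_comp, Subgroup.range_subtype, hD,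
      Subgroup.map_comap_eq_self_of_surjective (QuotientGroup.mk'_surjective _)]
  have hfk : Nat.card f.ker = Nat.card (Lay S n 1) := by
    refine Nat.card_congr (Equiv.ofBijective (fun g => ⟨((g.1 : M) : G), ?_⟩) ⟨?_, ?_⟩)
    · exact q_eq_one.mp g.2
    · exact fun a b e => Subtype.ext (Subtype.ext (Subtype.ext (congrArg Subtype.val e :)))
    · rintro ⟨z, hz⟩
      have hzM : z ∈ M := h.le_cen (lay_le S n 1 hz)
      have hz1 : q S n ⟨z, hzM⟩ = 1 := q_eq_one.mpr hz
      exact ⟨⟨⟨⟨z, hzM⟩, show q S n ⟨z, hzM⟩ ∈ C by rw [hz1]; exact one_mem _⟩, hz1⟩, rfl⟩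
  have h2 := f.ker.card_mul_index
  rw [Subgroup.index_ker, hfr, hfk, ← h1, mul_comm] at h2
  exact Nat.eq_of_mul_eq_mul_right Nat.card_pos h2

theorem moves_of_im {j : ℕ} (hj : j + 3 ≤ n)
    (hm : Moves (im S n S) (n - 1) (q S n ⟨x, h.le_cen h.mem⟩) j) : Moves S n x (j + 1) := by
  obtain ⟨t, ht, htL⟩ := hm
  obtain ⟨t, rfl⟩ := QuotientGroup.mk'_surjective _ t
  rw [h.lay_im (by omega)] at ht htL
  set L := Lay S n (j + 1 + 1) with hLdef
  have hLM : L ≤ cen S n := (lay_le S n _).trans h.le_cen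
  have hZL : Lay S n 1 ≤ L := lay_mono S n (by omega)
  have hxle : Subgroup.zpowers x ≤ cen S n := Subgroup.zpowers_le.mpr (h.le_cen h.mem)
  have hE : im S n (Subgroup.zpowers x ⊔ L) =
      Subgroup.zpowers (q S n ⟨x, h.le_cen h.mem⟩) ⊔ im S n L := by
    show ((Subgroup.zpowers x ⊔ L).subgroupOf (cen S n)).map (q S n) = _
    rw [Subgroup.subgroupOf_sup hxle hLM, Subgroup.map_sup, ← MonoidHom.map_zpowers]
    congr 2
    apply Subgroup.map_injective (cen S n).subtype_injective
    rw [Subgroup.map_subgroupOf_eq_of_le hxle, MonoidHom.map_zpowers]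
    rfl
  rw [← hE] at ht
  refine ⟨t, ?_, fun hc => htL ?_⟩
  · rintro _ ⟨g, hg, rfl⟩
    simp only [MulEquiv.coe_toMonoidHom, MulAut.conj_apply]
    exact map_comap_le (hZL.trans le_sup_right) ht hg ((sup_le hxle hLM) hg)
  · rintro _ ⟨w, hw, rfl⟩
    obtain ⟨g, hg, rfl⟩ := Subgroup.mem_map.mp hw
    simp only [MulEquiv.coe_toMonoidHom, MulAut.conj_apply]
    rw [← map_mul, ← map_inv, ← map_mul, mem_im hZL]
    exact hc ⟨(g : G), hg, by simp [MulAut.conj_apply]⟩

theorem exists_mem_of_im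
    (hg : ∃ g, q S n ⟨x, h.le_cen h.mem⟩ ∈
      (Lay (im S n S) (n - 1) 1).map (MulAut.conj g).toMonoidHom) (h4 : 4 ≤ n) :
    ∃ g : G, x ∈ (Lay S n 2).map (MulAut.conj g).toMonoidHom := by
  obtain ⟨g, w, hw, hwx⟩ := hg
  obtain ⟨g, rfl⟩ := QuotientGroup.mk'_surjective _ g
  rw [h.lay_im (by omega)] at hw
  obtain ⟨l, hl, rfl⟩ := Subgroup.mem_map.mp hw
  simp only [MulEquiv.coe_toMonoidHom, MulAut.conj_apply] at hwx
  set z : cen S n := (g * l * g⁻¹)⁻¹ * ⟨x, h.le_cen h.mem⟩ with hzdef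
  have h1 : q S n z = 1 := by
    rw [hzdef, map_mul, map_inv, map_mul, map_mul, map_inv, hwx, inv_mul_cancel]
  have hz := q_eq_one.mp h1
  have hcom : (z : G) * g = g * z := g.2 _ hz
  refine ⟨g, Subgroup.mem_map.mpr ⟨(l : G) * z, mul_mem hl (lay_mono S n (by omega) hz), ?_⟩⟩
  simp only [MulEquiv.coe_toMonoidHom, MulAut.conj_apply]
  calc (g : G) * ((l : G) * z) * (g : G)⁻¹ = (g : G) * l * ((z : G) * (g : G)⁻¹) := by group
    _ = (g : G) * l * ((g : G)⁻¹ * z) := by
        rw [show (z : G) * (g : G)⁻¹ = (g : G)⁻¹ * z from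
          (show Commute (z : G) g from hcom).inv_right.eq]
    _ = x := by rw [hzdef]; simp [mul_assoc]

end Ctx

end Quot

/-- Fusion of such elements: into the bottom layer, or one layer higher. -/
theorem fusion {p : ℕ} [hp : Fact p.Prime] : ∀ (n : ℕ) (G : Type u) [Group G] [Finite G]
    (P : Sylow p G) (x : G), Ctx p n (P : Subgroup G) x →
      p ^ 3 ∣ Nat.card (Subgroup.centralizer ({x} : Set G)) →
      Moves (P : Subgroup G) n x 0 ∨ (4 ≤ n ∧ Moves (P : Subgroup G) n x 1 ∧
        ∃ g : G, x ∈ (Lay (P : Subgroup G) n 2).map (MulAut.conj g).toMonoidHom) := by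
  intro n
  induction n using Nat.strong_induction_on with
  | _ n ih => ?_
  intro G _ _ P x h h3d
  classical
  set S := (P : Subgroup G) with hS
  set M := cen S n with hM
  by_cases hMd : p ^ 3 ∣ Nat.card (Subgroup.centralizer ({x} : Set G) ⊓ M : Subgroup G)
  · rcases Nat.lt_or_ge n 4 with hn4 | hn4
    · -- a conjugate of the whole Sylow subgroup centralizes `x`
      have hn : n = 3 := by have := h.three_le; omega
      let PM : Sylow p M := P.subtype h.le_cen
      obtain ⟨T, hT⟩ := Sylow.exists_subgroup_card_pow_prime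
        (G := ↥(Subgroup.centralizer ({x} : Set G) ⊓ M)) p hMd
      set T' := T.map (Subgroup.inclusion (inf_le_right :
        Subgroup.centralizer ({x} : Set G) ⊓ M ≤ M)) with hT'
      have hT'c : Nat.card T' = p ^ 3 := by
        rw [hT', Subgroup.card_map_of_injective (Subgroup.inclusion_injective _), hT]
      obtain ⟨Q, hQ⟩ := (IsPGroup.of_card hT'c).exists_le_sylow
      obtain ⟨g, hg⟩ := MulAction.exists_smul_eq M PM Q
      have hQc : Nat.card (Q : Subgroup M) = p ^ 3 := by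
        rw [Nat.card_congr (PM.equiv Q).toEquiv.symm]
        show Nat.card ↥((S.subgroupOf M)) = _
        rw [Nat.card_congr (Subgroup.subgroupOfEquivOfLe h.le_cen).toEquiv, h.card, hn]
      have hTQ : T' = (Q : Subgroup M) :=
        Subgroup.eq_of_le_of_card_ge hQ (hQc.le.trans hT'c.ge)
      have hcomm : ∀ s ∈ S, ((g : G) * s * (g : G)⁻¹) * x = x * ((g : G) * s * (g : G)⁻¹) := by
        intro s hs
        have h1 : g * ⟨s, h.le_cen hs⟩ * g⁻¹ ∈ (Q : Subgroup M) := by
          rw [← hg, Sylow.coe_subgroup_smul]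
          exact ⟨⟨s, h.le_cen hs⟩, hs, rfl⟩
        rw [← hTQ, hT'] at h1
        obtain ⟨u, -, hu⟩ := h1
        have h2 : (u : G) = (g : G) * s * (g : G)⁻¹ := congrArg Subtype.val hu
        rw [← h2]
        exact Subgroup.mem_centralizer_singleton_iff.mp u.2.1
      set s₀ := (g : G)⁻¹ * x * g with hs₀
      have hs₀c : ∀ s ∈ S, s₀ * s = s * s₀ := fun s hs => by
        have := hcomm s hs
        rw [hs₀]
        calc (g : G)⁻¹ * x * g * s = (g : G)⁻¹ * (x * ((g : G) * s * (g : G)⁻¹)) * g := by group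
          _ = (g : G)⁻¹ * (((g : G) * s * (g : G)⁻¹) * x) * g := by rw [this]
          _ = _ := by group
      have hx0 : IsPGroup p (Subgroup.zpowers s₀ : Subgroup G) := by
        obtain ⟨k, hk⟩ := h.pgroup ⟨x, h.mem⟩
        have hk' : x ^ p ^ k = 1 := congrArg Subtype.val hk
        rintro ⟨_, i, rfl⟩
        refine ⟨k, Subtype.ext ?_⟩
        show (s₀ ^ i) ^ p ^ k = 1
        rw [← zpow_natCast, zpow_comm, zpow_natCast, hs₀, show (g : G)⁻¹ * x * g =
          MulAut.conj ((g : G)⁻¹) x by simp, ← map_pow, hk', map_one, one_zpow]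
      have hsn : Subgroup.zpowers s₀ ≤ Subgroup.normalizer (S : Set G) :=
        ((Subgroup.zpowers_le (H := Subgroup.centralizer (S : Set G))).mpr
          fun s hs => (hs₀c s hs).symm).trans
          (Subgroup.centralizer_le_normalizer _)
      have hs₀S : s₀ ∈ S := by
        have := P.is_maximal' (h.pgroup.to_sup_of_normal_left' hx0 hsn) le_sup_left
        exact this.le (Subgroup.mem_sup_right (Subgroup.mem_zpowers s₀))
      have hz := h.mem_lay_one_of_central hs₀S hs₀c
      have hxs : x = s₀ := by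
        have := g.2 _ hz
        rw [show x = (g : G) * s₀ * (g : G)⁻¹ by rw [hs₀]; group, ← this]
        group
      exact absurd (hxs ▸ hz) h.notMem_lay_one
    · -- pass to the quotient by the bottom layer
      have hc := h.ctx_im hn4
      have hd : p ^ 3 ∣ Nat.card (Subgroup.centralizer
          ({q S n ⟨x, h.le_cen h.mem⟩} : Set (M ⧸ (Lay S n 1).subgroupOf M))) := by
        rw [h.card_centralizer_im]
        exact hMd
      let PQ : Sylow p (M ⧸ (Lay S n 1).subgroupOf M) :=
        (P.subtype h.le_cen).mapSurjective (QuotientGroup.mk'_surjective _)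
      have hPQ : (PQ : Subgroup (M ⧸ (Lay S n 1).subgroupOf M)) = im S n S := rfl
      rcases ih (n - 1) (by omega) _ PQ _ (hPQ ▸ hc) hd with hA | ⟨h5, hB, -⟩
      · rw [hPQ] at hA
        exact Or.inr ⟨hn4, h.moves_of_im (by omega) hA,
          h.exists_mem_of_im (hc.exists_mem_of_moves hA) hn4⟩
      · rw [hPQ] at hB
        exact absurd (h.moves_of_im (by omega) hB) (h.not_moves_two (by omega))
  · -- an element of the centralizer of `x` moves the bottom layer
    left
    have hQC : S ⊓ Subgroup.centralizer ({x} : Set G) ≤ Subgroup.centralizer ({x} : Set G) :=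
      inf_le_right
    have hQ : Nat.card ((S ⊓ Subgroup.centralizer ({x} : Set G)).subgroupOf
        (Subgroup.centralizer ({x} : Set G))) = p ^ 2 := by
      rw [Nat.card_congr (Subgroup.subgroupOfEquivOfLe hQC).toEquiv, h.cent]
    obtain ⟨T, hT, hQT⟩ := Sylow.exists_subgroup_card_pow_succ h3d hQ
    set T' := T.map (Subgroup.centralizer ({x} : Set G)).subtype with hT'
    have hTc : Nat.card T' = p ^ 3 := by
      rw [hT', Subgroup.card_map_of_injective (Subgroup.subtype_injective _), hT]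
    have hQT' : S ⊓ Subgroup.centralizer ({x} : Set G) ≤ T' := fun g hg =>
      ⟨⟨g, hg.2⟩, hQT hg, rfl⟩
    obtain ⟨t, htT, htM⟩ : ∃ t ∈ T', t ∉ M := by
      by_contra hcon
      push Not at hcon
      refine hMd (hTc ▸ Subgroup.card_dvd_of_le (le_inf (Subgroup.map_subtype_le _) hcon))
    have hnQ : T' ≤ Subgroup.normalizer
        ((S ⊓ Subgroup.centralizer ({x} : Set G) : Subgroup G) : Set G) := by
      haveI := Subgroup.normal_of_index_eq_minFac_card
        (H := (S ⊓ Subgroup.centralizer ({x} : Set G)).subgroupOf T') (by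
          have h1 := Subgroup.card_mul_index ((S ⊓ Subgroup.centralizer ({x} : Set G)).subgroupOf T')
          rw [Nat.card_congr (Subgroup.subgroupOfEquivOfLe hQT').toEquiv, h.cent, hTc, pow_succ p 2]
            at h1
          rw [Nat.eq_of_mul_eq_mul_left (pow_pos hp.out.pos 2) h1, hTc, Nat.pow_minFac (by omega),
            hp.out.minFac_eq])
      exact (Subgroup.normal_subgroupOf_iff_le_normalizer hQT').mp inferInstance
    refine ⟨t, ?_, fun hc => htM ?_⟩
    · rw [zero_add, ← h.cent_eq]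
      rintro _ ⟨g, hg, rfl⟩
      exact (Subgroup.mem_normalizer_iff.mp (hnQ htT) g).mp hg
    · rw [zero_add] at hc
      set Z := Lay S n 1 with hZ
      have htn : t ∈ Subgroup.normalizer (Z : Set G) :=
        Subgroup.mem_normalizer_fintype fun z hz => hc ⟨z, hz, rfl⟩
      set K := Subgroup.normalizer (Z : Set G)
      let φ := Z.normalizerMonoidHom
      have hZp : Nat.card Z = p := by rw [hZ, h.lay 1 h.three_le, pow_one]
      haveI : IsCyclic Z := isCyclic_of_prime_card hZp
      have h1 : orderOf (φ ⟨t, htn⟩) ∣ p - 1 := by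
        refine (orderOf_dvd_natCard _).trans (dvd_of_eq ?_)
        rw [IsCyclic.card_mulAut, hZp, Nat.totient_prime hp.out]
      obtain ⟨k, hk⟩ := (IsPGroup.of_card hTc) ⟨t, htT⟩
      have hk' : t ^ p ^ k = 1 := congrArg Subtype.val hk
      have h2 : orderOf (φ ⟨t, htn⟩) ∣ p ^ k := orderOf_dvd_of_pow_eq_one (by
        rw [← map_pow, show (⟨t, htn⟩ : K) ^ p ^ k = 1 from Subtype.ext hk', map_one])
      have h3 : φ ⟨t, htn⟩ = 1 := orderOf_eq_one_iff.mp
        (Nat.eq_one_of_dvd_coprimes (Nat.Coprime.pow_left k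
          (hp.out.coprime_iff_not_dvd.mpr fun hd => by
            have := hp.out.two_le
            have := Nat.le_of_dvd (by omega) hd
            omega)) h2 h1)
      intro z hz
      have h4 : t * z * t⁻¹ = z :=
        congrArg Subtype.val (DFunLike.congr_fun h3 (⟨z, hz⟩ : Z))
      calc z * t = t * z * t⁻¹ * t := by rw [h4]
        _ = t * z := by group

end CfsgLib.MaxClassSylow
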