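import Mathlib
import Cfsg.Prelude.Def_Solvable
import Cfsg.Prelude.Def_CaseTheorems
import Cfsg.Agent.Lib.MaxClassSylow.Fusion
import Cfsg.Agent.Lib.MaxClassLayers.Uniform
import Cfsg.Agent.Lib.PGroup.TwoMaximalClass
import Cfsg.Agent.Lib.PSolvable.Omega
import Cfsg.Agent.Lib.Transfer.Basic
import Cfsg.Agent.Lib.PSolvable.Core
import Cfsg.Agent.S0081

/-!
Groups with a Sylow subgroup of maximal class in which every centralizer has large `p`-part.
-/

set_option autoImplicit false
set_option linter.style.haveILetI false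
set_option linter.unusedSectionVars false

open scoped commutatorElement Pointwise

namespace CfsgLib.MaxClassSylow

universe u

variable {p : ℕ} [hp : Fact p.Prime]

theorem sylow_normal_of_nilpotent {G : Type u} [Group G] [Finite G] [h : Group.IsNilpotent G]
    (P : Sylow p G) : (P : Subgroup G).Normal :=
  ((Group.isNilpotent_of_finite_tfae (G := G)).out 0 3 rfl rfl).mp h p inferInstance P

theorem exists_cent {X : Type u} [Group X] [Finite X] {n : ℕ} (hn : 3 ≤ n)
    (hX : Nat.card X = p ^ n) (hc : Group.nilpotencyClass X = n - 1) (K : Subgroup X) (hK : K ≠ ⊤) :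
    ∃ y : X, y ∉ K ∧ Nat.card (Subgroup.centralizer ({y} : Set X)) = p ^ 2 := by
  classical
  rcases IsCoatomic.eq_top_or_exists_le_coatom K with h | ⟨M, hM, hKM⟩
  · exact absurd h hK
  by_cases hp2 : p = 2
  · subst hp2
    have hX' := MaxClass.card_commutator_of_maximal hn hX hc
    obtain ⟨-, C, hC, hCi⟩ := MaxClass.taussky n X hn hX hX'
    have hCne : C ≠ ⊤ := fun e => by rw [e, Subgroup.index_top] at hCi; omega
    obtain ⟨t, htC, htM⟩ : ∃ t, t ∉ C ∧ t ∉ M := by
      by_contra hcon
      push Not at hcon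
      obtain ⟨a, ha⟩ : ∃ a, a ∉ C := by
        by_contra h'; push Not at h'; exact hCne (eq_top_iff.mpr fun g _ => h' g)
      obtain ⟨b, hb⟩ : ∃ b, b ∉ M := by
        by_contra h'; push Not at h'; exact hM.1 (eq_top_iff.mpr fun g _ => h' g)
      have haM : a ∈ M := hcon a ha
      have hbC : b ∈ C := by by_contra h'; exact hb (hcon b h')
      have hab : a * b ∉ C := fun h' => ha (by simpa using mul_mem h' (inv_mem hbC))
      have hab' := mul_mem (inv_mem haM) (hcon _ hab)
      rw [inv_mul_cancel_left] at hab'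
      exact hb hab'
    haveI : IsMulCommutative C := inferInstance
    obtain ⟨hfac, -⟩ := MaxClass.index_two_facts C hCi htC (MaxClass.commutator_ne_bot_of_card hn hX')
    rw [hX, hX', show 2 ^ n = 2 * (2 ^ (n - 2) * 2) by
      rw [← pow_succ, ← pow_succ', show n - 2 + 1 + 1 = n by omega]] at hfac
    have hZ : Nat.card (Subgroup.center X) = 2 :=
      (Nat.eq_of_mul_eq_mul_left (pow_pos two_pos _) (Nat.eq_of_mul_eq_mul_left two_pos hfac)).symm
    have hcomm : ∀ a ∈ C, ∀ b ∈ C, a * b = b * a := fun a ha b hb =>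
      congrArg Subtype.val (mul_comm' (⟨a, ha⟩ : C) ⟨b, hb⟩)
    have hsplit : ∀ g : X, g ∈ C ∨ g * t⁻¹ ∈ C := fun g => by
      by_cases hg : g ∈ C
      · exact Or.inl hg
      · exact Or.inr ((Subgroup.mul_mem_iff_of_index_two hCi).mpr
          (iff_of_false hg (fun h' => htC (inv_mem_iff.mp h'))))
    have hcen : ∀ c ∈ C, c * t = t * c → c ∈ Subgroup.center X := fun c hcC hct =>
      Subgroup.mem_center_iff.mpr fun g => by
        rcases hsplit g with h | h
        · exact hcomm g h c hcC
        · have e := hcomm _ h c hcC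
          calc g * c = g * t⁻¹ * (t * c) := by group
            _ = g * t⁻¹ * c * t := by rw [← hct, ← mul_assoc]
            _ = c * g := by rw [e]; group
    set Z := Subgroup.center X
    set T := Subgroup.centralizer ({t} : Set X)
    have hZT : Z ≤ T := Subgroup.center_le_centralizer _
    have htT : t ∈ T := Subgroup.mem_centralizer_singleton_iff.mpr rfl
    have htZ : t ∉ Z := fun h' => by
      have hle : Subgroup.zpowers t ⊔ C ≤ Subgroup.centralizer (C : Set X) := sup_le
        (Subgroup.zpowers_le.mpr (Subgroup.center_le_centralizer _ h')) (fun a ha b hb => hcomm b hb a ha)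
      refine MaxClass.commutator_ne_bot_of_card hn hX' ?_
      rw [eq_bot_iff, commutator_def, Subgroup.commutator_le]
      intro a _ b _
      rw [Subgroup.mem_bot, commutatorElement_eq_one_iff_mul_comm]
      have key : ∀ g : X, ∀ c ∈ C, g * c = c * g := fun g c hcC =>
        ((hle (show g ∈ Subgroup.zpowers t ⊔ C by
          rcases hsplit g with h | h
          · exact Subgroup.mem_sup_right h
          · have := mul_mem (Subgroup.mem_sup_right h : _ ∈ Subgroup.zpowers t ⊔ C)
              (Subgroup.mem_sup_left (Subgroup.mem_zpowers t))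
            rwa [inv_mul_cancel_right] at this)) c hcC).symm
      rcases hsplit b with h | h
      · exact key a b h
      · have e := key a _ h
        calc a * b = a * (b * t⁻¹) * t := by group
          _ = b * t⁻¹ * a * t := by rw [e]
          _ = b * t⁻¹ * (t * a) := by rw [mul_assoc (b * t⁻¹), Subgroup.mem_center_iff.mp h' a]
          _ = b * a := by group
    refine ⟨t, fun h' => htM (hKM h'), le_antisymm ?_ ?_⟩
    · have h1 := (Z.subgroupOf T).card_mul_index
      rw [Nat.card_congr (Subgroup.subgroupOfEquivOfLe hZT).toEquiv, hZ] at h1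
      have h2 : (Z.subgroupOf T).index ≤ 2 := by
        rw [Subgroup.index_eq_card]
        refine le_trans (Nat.card_le_card_of_surjective
          (fun b : Fin 2 => if b = 0 then (QuotientGroup.mk 1 : T ⧸ Z.subgroupOf T)
            else QuotientGroup.mk ⟨t, htT⟩) fun q => ?_) (le_of_eq (by simp))
        obtain ⟨⟨g, hg⟩, rfl⟩ := QuotientGroup.mk_surjective q
        have hgt := Subgroup.mem_centralizer_singleton_iff.mp hg
        rcases hsplit g with h | h
        · refine ⟨0, ?_⟩
          simp only [↓reduceIte]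
          rw [QuotientGroup.eq, Subgroup.mem_subgroupOf]
          simpa using hcen g h hgt
        · refine ⟨1, ?_⟩
          simp only [show (1 : Fin 2) ≠ 0 by decide, ↓reduceIte]
          rw [QuotientGroup.eq, Subgroup.mem_subgroupOf]
          have hz := hcen _ h (by rw [inv_mul_cancel_right, ← mul_assoc, ← hgt, mul_inv_cancel_right])
          show t⁻¹ * g ∈ Z
          have e : g * t⁻¹ * t = t * (g * t⁻¹) := (Subgroup.mem_center_iff.mp hz t).symm
          rw [inv_mul_cancel_right] at e
          rw [show t⁻¹ * g = g * t⁻¹ by conv_lhs => rw [e, inv_mul_cancel_left]]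
          exact hz
      calc Nat.card T = _ := h1.symm
        _ ≤ 2 * 2 := Nat.mul_le_mul_left 2 h2
        _ = 2 ^ 2 := rfl
    · obtain ⟨a, ha⟩ := IsPGroup.iff_card.mp ((IsPGroup.of_card hX).to_subgroup T)
      rw [ha]
      refine Nat.pow_le_pow_right two_pos ?_
      by_contra hlt
      refine htZ ((Subgroup.eq_of_le_of_card_ge hZT ?_).symm ▸ htT)
      rw [hZ, ha]
      exact le_trans (Nat.pow_le_pow_right two_pos (show a ≤ 1 by omega)) (by norm_num)
  · have h : MaxClassLayers.MC X p n := ⟨hX, hc, hn⟩
    obtain ⟨y, hyM, hy⟩ := MaxClassLayers.hasUniform hp2 n X h M hM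
    exact ⟨y, fun h' => hyM (hKM h'), (MaxClassLayers.uniform_facts h hy).1⟩

theorem main {G : Type u} [Group G] [Finite G] (P : Sylow p G) (n : ℕ)
    (hP : Nat.card P = p ^ n) (hn : 2 ≤ n) (hmax : Group.nilpotencyClass ↥(P : Subgroup G) = n - 1)
    (hcore : Cfsg.pPrimeCore p G = ⊥)
    (hres : ∀ N : Subgroup G, N.Normal → (N.index).Coprime p → N = ⊤) :
    (∃ x ∈ (P : Subgroup G),
      (Nat.card (Subgroup.centralizer ({x} : Set G))).factorization p = 2) ∨
      (Cfsg.IsQuasisimple G ∧ Nat.card (Subgroup.center G) ≤ p) := by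
  classical
  set S := (P : Subgroup G) with hS
  have hpp := hp.out
  have hfact : ∀ m : ℕ, m ≠ 0 → ∀ k, p ^ k ∣ m ↔ k ≤ m.factorization p := fun m hm k =>
    hpp.pow_dvd_iff_le_factorization hm
  rcases (show n = 2 ∨ 3 ≤ n by omega) with rfl | h3
  · refine Or.inl ⟨1, one_mem _, ?_⟩
    rw [show Subgroup.centralizer ({(1 : G)} : Set G) = ⊤ from eq_top_iff.mpr fun g _ =>
      Subgroup.mem_centralizer_singleton_iff.mpr (by simp), Subgroup.card_top]
    have h1 := Sylow.card_eq_multiplicity P
    rw [hP] at h1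
    exact (Nat.pow_right_injective hpp.two_le h1).symm
  by_contra hcon
  rw [not_or] at hcon
  obtain ⟨hno, hnq⟩ := hcon
  push Not at hno
  -- the layers
  have hlay : ∀ j, j + 2 ≤ n → Nat.card (Lay S n j) = p ^ j := fun j hj => by
    rw [Lay, ← Subgroup.top_subtype_lowerCentralSeries,
      Subgroup.card_map_of_injective S.subtype_injective,
      show n - 1 - j = (n - 2 - j) + 1 by omega, MaxClass.card_lcs_eq hP hmax h3 _ (by omega)]
    congr 1
    omega
  have hctx : ∀ x : G, x ∈ S → Nat.card (S ⊓ Subgroup.centralizer ({x} : Set G) : Subgroup G) = p ^ 2 →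
      Ctx p n S x := fun x hx hc => ⟨h3, hP, hlay, hx, hc⟩
  have hdvd : ∀ x : G, Ctx p n S x → p ^ 3 ∣ Nat.card (Subgroup.centralizer ({x} : Set G)) :=
    fun x h => by
      have h2 : p ^ 2 ∣ Nat.card (Subgroup.centralizer ({x} : Set G)) :=
        h.cent ▸ Subgroup.card_dvd_of_le inf_le_right
      rw [hfact _ Nat.card_pos.ne'] at h2 ⊢
      have := hno x h.mem
      omega
  have hex : ∀ K : Subgroup G, ¬ S ≤ K → ∃ x, Ctx p n S x ∧ x ∉ K := fun K hK => by
    obtain ⟨y, hyK, hy⟩ := exists_cent h3 hP hmax (K.subgroupOf S)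
      (fun e => hK (Subgroup.subgroupOf_eq_top.mp e))
    refine ⟨y, hctx y y.2 ?_, hyK⟩
    rw [← hy, ← Subgroup.card_map_of_injective S.subtype_injective
      (K := Subgroup.centralizer ({y} : Set S))]
    congr 2
    ext g
    simp only [Subgroup.mem_inf, Subgroup.mem_map]
    constructor
    · rintro ⟨hgS, hg⟩
      exact ⟨⟨g, hgS⟩, Subgroup.mem_centralizer_singleton_iff.mpr
        (Subtype.ext (Subgroup.mem_centralizer_singleton_iff.mp hg)), rfl⟩
    · rintro ⟨g, hg, rfl⟩
      exact ⟨g.2, Subgroup.mem_centralizer_singleton_iff.mpr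
        (congrArg Subtype.val (Subgroup.mem_centralizer_singleton_iff.mp hg))⟩
  obtain ⟨x₀, hx₀, -⟩ := hex ⊥ (fun e => by
    have h1 := Subgroup.card_le_of_le e
    rw [Subgroup.card_bot, hP] at h1
    exact absurd h1 (Nat.not_le.mpr (Nat.one_lt_pow (by omega) hpp.one_lt)))
  -- normal subgroups
  have htop : ∀ N : Subgroup G, N.Normal → S ≤ N → N = ⊤ := fun N hN hle => hres N hN
    (((Nat.Prime.coprime_iff_not_dvd hpp).mpr fun hd =>
      P.not_dvd_index (hd.trans (Subgroup.index_dvd_of_le hle))).symm)
  have hNone : ∀ N : Subgroup G, N.Normal → N ≠ ⊥ → N = Lay S n 1 ∨ N = ⊤ := by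
    intro N hN hN1
    have hDn : S ≤ Subgroup.normalizer ((N ⊓ S : Subgroup G) : Set G) := fun s hs =>
      Subgroup.mem_normalizer_iff.mpr fun g => by
        simp only [Subgroup.mem_inf]
        exact and_congr ((Subgroup.mem_normalizer_iff.mp
          (Subgroup.normalizer_eq_top (H := N) ▸ Subgroup.mem_top s)) g)
          ((Subgroup.mem_normalizer_iff.mp (Subgroup.le_normalizer hs)) g)
    have hD : N ⊓ S ≠ ⊥ := fun e => hN1 (by
      rw [eq_bot_iff, ← hcore]
      refine Transfer.le_pPrimeCore hN ((Nat.Prime.coprime_iff_not_dvd hpp).mpr fun hd => ?_).symm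
      obtain ⟨Q, hQ⟩ := Sylow.exists_subgroup_card_pow_prime (G := N) p (n := 1) (by rwa [pow_one])
      obtain ⟨R, hR⟩ := ((IsPGroup.of_card hQ).map N.subtype).exists_le_sylow
      obtain ⟨g, hg⟩ := MulAction.exists_smul_eq G R P
      obtain ⟨q, hq, hq1⟩ := Subgroup.bot_or_exists_ne_one Q |>.resolve_left fun e => by
        rw [e, Subgroup.card_bot, pow_one] at hQ
        exact hpp.one_lt.ne hQ
      have h1 : g * (q : G) * g⁻¹ ∈ (N ⊓ S : Subgroup G) := ⟨hN.conj_mem _ q.2 g, by
        rw [hS, ← hg, Sylow.coe_subgroup_smul]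
        exact ⟨q, hR ⟨q, hq, rfl⟩, rfl⟩⟩
      rw [e, Subgroup.mem_bot, conj_eq_one_iff] at h1
      exact hq1 (Subtype.ext h1))
    have hZD := hx₀.lay_one_le_of_normal inf_le_right hDn hD
    by_cases heq : N ⊓ S = Lay S n 1
    · left
      have hfr : N ⊓ S ≤ (frattini S).map S.subtype := by
        rw [heq, Lay, ← Subgroup.top_subtype_lowerCentralSeries]
        refine Subgroup.map_mono (le_trans ((⊤ : Subgroup S).lowerCentralSeries_antitone
          (show 1 ≤ n - 1 - 1 by omega)) ?_)
        rw [Subgroup.top_lowerCentralSeries_one]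
        exact (PSolvable.commutator_le_frattini P.isPGroup').1
      obtain ⟨Q, K, hKn, hKc⟩ := @Cfsg.Agent.S0081.result G _ _ p _ P N hN hfr
      haveI := hKn
      have hKp : (Nat.card K).Coprime p :=
        ((Nat.Prime.coprime_iff_not_dvd hpp).mpr fun hd => Q.not_dvd_index (by
          rw [hKc.index_eq_card]; exact hd)).symm
      have hK1 : K = ⊥ := by
        have hKle : K ≤ Cfsg.pPrimeCore p N := Transfer.le_pPrimeCore hKn hKp
        have hmap : (Cfsg.pPrimeCore p N).map N.subtype = ⊥ := by
          rw [eq_bot_iff, ← hcore]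
          haveI := hN
          haveI : (Cfsg.pPrimeCore p N).Characteristic := PSolvable.pPrimeCore_characteristic p
          exact Transfer.le_pPrimeCore inferInstance (by
            rw [Subgroup.card_map_of_injective N.subtype_injective]
            exact Transfer.pPrimeCore_coprime p)
        rw [Subgroup.map_eq_bot_iff, Subgroup.ker_subtype] at hmap
        exact le_bot_iff.mp (hKle.trans hmap)
      have hQtop : (Q : Subgroup N) = ⊤ := by
        have := hKc.sup_eq_top
        rwa [hK1, bot_sup_eq] at this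
      obtain ⟨R, hR⟩ := (show IsPGroup p N from fun g => by
        obtain ⟨k, hk⟩ := Q.isPGroup' ⟨g, hQtop ▸ Subgroup.mem_top g⟩
        exact ⟨k, congrArg Subtype.val hk⟩).exists_le_sylow
      obtain ⟨g, hg⟩ := MulAction.exists_smul_eq G R P
      have hNS : N ≤ S := fun a ha => by
        rw [hS, ← hg, Sylow.coe_subgroup_smul]
        exact ⟨g⁻¹ * a * g, hR (by simpa using hN.conj_mem a ha g⁻¹),
          show g * (g⁻¹ * a * g) * g⁻¹ = a by group⟩
      rwa [inf_eq_left.mpr hNS] at heq
    · right
      refine htop N hN ?_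
      by_contra hSN
      obtain ⟨x, hx, hxN⟩ := hex N hSN
      have hmem : ∀ j, Lay S n j ≤ N → (∃ g : G, x ∈ (Lay S n j).map (MulAut.conj g).toMonoidHom) →
          x ∈ N := by
        rintro j hle ⟨g, l, hl, rfl⟩
        exact hN.conj_mem l (hle hl) g
      rcases fusion n G P x hx (hdvd x hx) with hA | ⟨h4, -, hB⟩
      · exact hxN (hmem 1 (hZD.trans inf_le_left) (hx.exists_mem_of_moves hA))
      · refine hxN (hmem 2 ?_ hB)
        -- a normal subgroup of `S` above the bottom layer contains the next one
        have hDM : N ⊓ S ≤ cen S n := inf_le_right.trans hx.le_cen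
        have hne : im S n (N ⊓ S) ≠ ⊥ := fun e => heq (by
          refine le_antisymm (fun d hd => ?_) hZD
          have h1 : q S n ⟨d, hDM hd⟩ ∈ im S n (N ⊓ S) := Subgroup.mem_map_of_mem _ hd
          rw [e, Subgroup.mem_bot] at h1
          exact q_eq_one.mp h1)
        have hn' : im S n S ≤ Subgroup.normalizer (im S n (N ⊓ S) : Set _) := by
          rintro _ ⟨s, hs, rfl⟩
          rw [Subgroup.mem_normalizer_iff]
          intro w
          obtain ⟨w, rfl⟩ := QuotientGroup.mk'_surjective _ w
          rw [← map_mul, ← map_inv, ← map_mul, mem_im hZD, mem_im hZD]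
          exact Subgroup.mem_normalizer_iff.mp (hDn hs) w
        have hle : im S n (N ⊓ S) ≤ im S n S :=
          Subgroup.map_mono (fun d hd => hd.2)
        have h5 := (hx.ctx_im h4).lay_one_le_of_normal hle hn' hne
        rw [hx.lay_im (by omega)] at h5
        intro l hl
        exact ((mem_im hZD (g := ⟨l, hx.le_cen (lay_le S n 2 hl)⟩)).mp
          (h5 (Subgroup.mem_map_of_mem _ (show (⟨l, hx.le_cen (lay_le S n 2 hl)⟩ : cen S n) ∈
            (Lay S n 2).subgroupOf (cen S n) from hl)))).1
  -- the bottom layer is central when normal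
  have hcentral : (Lay S n 1).Normal → Lay S n 1 ≤ Subgroup.center G := fun hn1 => by
    have := htop (Subgroup.centralizer (Lay S n 1 : Set G)) inferInstance hx₀.le_centralizer_lay_one
    intro z hz
    refine Subgroup.mem_center_iff.mpr fun g => ?_
    exact ((this ▸ Subgroup.mem_top g : g ∈ Subgroup.centralizer (Lay S n 1 : Set G)) z hz).symm
  have hna : ∀ x : G, Ctx p n S x → x ∉ Subgroup.center G := fun x h hx =>
    h.notMem_lay_one (h.mem_lay_one_of_central h.mem fun g _ =>
      (Subgroup.mem_center_iff.mp hx g).symm)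
  have hcne : Subgroup.center G ≠ ⊤ := fun e => hna x₀ hx₀ (e ▸ Subgroup.mem_top _)
  have hZc : Nat.card (Subgroup.center G) ≤ p := by
    by_cases hb : Subgroup.center G = ⊥
    · rw [hb, Subgroup.card_bot]; exact hpp.pos
    · rw [(hNone _ inferInstance hb).resolve_right hcne, hlay 1 (by omega), pow_one]
  refine hnq ⟨?_, hZc⟩
  have hperfect : commutator G = ⊤ := by
    by_contra hne
    have hle : commutator G ≤ Subgroup.center G := by
      by_cases hb : commutator G = ⊥
      · rw [hb]; exact bot_le
      · have e := (hNone _ inferInstance hb).resolve_right hne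
        rw [e]
        exact hcentral (e ▸ inferInstance)
    haveI : Group.IsNilpotent G := Subgroup.nilpotent_iff_lowerCentralSeries.mpr ⟨2, by
      rw [Subgroup.lowerCentralSeries_succ, Subgroup.top_lowerCentralSeries_one, eq_bot_iff,
        Subgroup.commutator_le]
      intro a ha b _
      rw [Subgroup.mem_bot, commutatorElement_eq_one_iff_mul_comm]
      exact (Subgroup.mem_center_iff.mp (hle ha) b).symm⟩
    have hSn : S.Normal := CfsgLib.MaxClassSylow.sylow_normal_of_nilpotent P
    have hST := htop S hSn le_rfl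
    have h1 := hdvd x₀ hx₀
    rw [show Subgroup.centralizer ({x₀} : Set G) = S ⊓ Subgroup.centralizer ({x₀} : Set G) by
      rw [hST, top_inf_eq], hx₀.cent] at h1
    have := (Nat.pow_dvd_pow_iff_le_right hpp.one_lt).mp h1
    omega
  refine ⟨⟨hperfect⟩, ?_⟩
  haveI : Nontrivial (G ⧸ Subgroup.center G) := QuotientGroup.nontrivial_iff.mpr hcne
  refine ⟨fun H hH => ?_⟩
  set f := QuotientGroup.mk' (Subgroup.center G)
  have hsurj : Function.Surjective f := QuotientGroup.mk'_surjective _
  by_cases hb : H.comap f = ⊥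
  · left
    rw [← Subgroup.map_comap_eq_self_of_surjective hsurj H, hb, Subgroup.map_bot]
  · rcases hNone _ inferInstance hb with e | e
    · left
      rw [← Subgroup.map_comap_eq_self_of_surjective hsurj H, Subgroup.map_eq_bot_iff,
        QuotientGroup.ker_mk', e]
      exact hcentral (e ▸ inferInstance)
    · right
      rw [← Subgroup.map_comap_eq_self_of_surjective hsurj H, e,
        Subgroup.map_top_of_surjective _ hsurj]

end CfsgLib.MaxClassSylow
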